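import Groth.Agent.Lib.ModDesc.Approx

/-! # A finitely presented module, flat at a point or everywhere, comes from a Noetherian stage -/

set_option autoImplicit false
set_option backward.isDefEq.respectTransparency false
set_option linter.style.haveILetI false
universe u

open CategoryTheory Limits AlgebraicGeometry Opposite TopologicalSpace

noncomputable section

namespace GrothLib.ModDesc5

open GrothLib GrothLib.ModDesc
open GrothLib.LimDescend (Model fgDiagram fgCone isLimitFgCone)
open GrothLib.LimDesc (diag mapNat)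

variable {I : Type u} [SmallCategory I] [IsCofiltered I] {D : I ⥤ Scheme.{u}} {c : Cone D} (hc : IsLimit c)
  [∀ (i j : I) (f : i ⟶ j), IsAffineHom (D.map f)] [∀ i, IsAffine (D.obj i)] [∀ i, IsLocallyNoetherian (D.obj i)]
  {X : Scheme.{u}} {f : X ⟶ c.pt}

include hc in
/-- A finitely presented module comes from a coherent module on a Noetherian model. -/
theorem exists_stage_module [LocallyOfFinitePresentation f] [QuasiCompact f] [QuasiSeparated f] (F : X.Modules)
    [F.IsQuasicoherent] (hF : CohB1.IsFP F) :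
    ∃ (j : I) (M : Model D c f j) (G : M.obj.Modules), Coh.IsCoh G ∧
      Nonempty ((Scheme.Modules.pullback M.proj).obj G ≅ F) := by
  obtain ⟨i, ⟨M⟩⟩ := LimDescend.exists_model D c hc f
  haveI : CompactSpace M.obj := QuasiCompact.compactSpace_of_compactSpace M.hom
  haveI : ∀ j : Over i, IsLocallyNoetherian ((diag D i M.hom).obj j) := fun j =>
    isLocallyNoetherian_model (M.map D c j.hom)
  haveI : ∀ (j k : Over i) (φ : j ⟶ k), IsAffineHom ((diag D i M.hom).map φ) :=
    fun j k φ => LimDesc.isAffineHom_map D i M.hom φ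
  let top : Over i := Over.mk (𝟙 i)
  haveI : CompactSpace ((diag D i M.hom).obj top) := LimDesc.compactSpace_obj D i M.hom top
  haveI : (LimDesc.cone D i M.hom M.isPullback).pt = X := rfl
  obtain ⟨j, -, G₁, hG₁, ⟨e₁⟩⟩ := exists_descend (diag D i M.hom) (LimDesc.cone D i M.hom M.isPullback)
    (LimDesc.isLimitCone D i M.hom M.isPullback hc) top F hF
  exact ⟨j.left, M.map D c j.hom, G₁, hG₁, ⟨e₁⟩⟩

include hc in
/-- Flatness at a point comes from a Noetherian model. -/
theorem exists_stage_flatAt [LocallyOfFinitePresentation f] [QuasiCompact f] [QuasiSeparated f] (F : X.Modules)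
    [F.IsQuasicoherent] (hF : CohB1.IsFP F) (x : X) (hfl : FlatMod.IsFlatOverAt f F x) :
    ∃ (j : I) (M : Model D c f j) (G : M.obj.Modules), Coh.IsCoh G ∧
      Nonempty ((Scheme.Modules.pullback M.proj).obj G ≅ F) ∧ FlatMod.IsFlatOverAt M.hom G (M.proj x) := by
  obtain ⟨k, M₂, G₂, hG₂, ⟨e₂⟩⟩ := exists_stage_module hc (f := f) F hF
  haveI := hG₂.1
  haveI : IsLocallyNoetherian M₂.obj := isLocallyNoetherian_model M₂
  obtain ⟨l, hl⟩ := FlatLimit.exists_stage_flatAt D hc M₂.hom (𝟙 (D.obj k)) isPullback_id M₂.isPullback G₂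
    (QCoh.isFinitePresentation_of_isFiniteType G₂ hG₂.2) x ((FlatFP.isFlatOverAt_congr f e₂ x).2 hfl)
  let M₃ : Model D c f l.left := (postId M₂).map D c l.hom
  refine ⟨l.left, M₃, (Scheme.Modules.pullback (pullback.fst (postId M₂).hom (D.map l.hom))).obj G₂,
    isCoh_pullback _ G₂ hG₂, exists_pullback_iso (postId M₂) l.hom G₂ F e₂, ?_⟩
  show FlatMod.IsFlatOverAt ((postId M₂).map D c l.hom).hom _ _
  rw [← mapNat_comp_snd M₂ l]
  haveI : IsIso (pullback.snd (𝟙 (D.obj k)) (D.map l.hom)) := inferInstance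
  exact FlatDesc.isFlatOverAt_comp _ _ _ _ hl

include hc in
/-- Flatness everywhere comes from a Noetherian model. -/
theorem exists_stage_flatOver [LocallyOfFinitePresentation f] [QuasiCompact f] [QuasiSeparated f] (F : X.Modules)
    [F.IsQuasicoherent] (hF : CohB1.IsFP F) (hfl : FlatMod.IsFlatOver f F) :
    ∃ (j : I) (M : Model D c f j) (G : M.obj.Modules), Coh.IsCoh G ∧
      Nonempty ((Scheme.Modules.pullback M.proj).obj G ≅ F) ∧ FlatMod.IsFlatOver M.hom G := by
  obtain ⟨k, M₂, G₂, hG₂, ⟨e₂⟩⟩ := exists_stage_module hc (f := f) F hF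
  haveI := hG₂.1
  haveI : IsLocallyNoetherian M₂.obj := isLocallyNoetherian_model M₂
  haveI : CompactSpace M₂.obj := QuasiCompact.compactSpace_of_compactSpace M₂.hom
  obtain ⟨l, hl⟩ := FlatLimit.exists_stage_flatOver D hc M₂.hom (𝟙 (D.obj k)) isPullback_id M₂.isPullback G₂
    (QCoh.isFinitePresentation_of_isFiniteType G₂ hG₂.2) fun x => (FlatFP.isFlatOverAt_congr f e₂ x).2 (hfl x)
  let M₃ : Model D c f l.left := (postId M₂).map D c l.hom
  refine ⟨l.left, M₃, (Scheme.Modules.pullback (pullback.fst (postId M₂).hom (D.map l.hom))).obj G₂,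
    isCoh_pullback _ G₂ hG₂, exists_pullback_iso (postId M₂) l.hom G₂ F e₂, ?_⟩
  show FlatMod.IsFlatOver ((postId M₂).map D c l.hom).hom _
  rw [← mapNat_comp_snd M₂ l]
  haveI : IsIso (pullback.snd (𝟙 (D.obj k)) (D.map l.hom)) := inferInstance
  exact fun x => FlatDesc.isFlatOverAt_comp _ _ _ x (hl x)

end GrothLib.ModDesc5
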